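import Groth.Agent.NefH1Lib.MinimalPoint
import Groth.Agent.BlowRegLib.Point
import Mathlib.RingTheory.Ideal.KrullsHeightTheorem

/-!
# The multiplicity of a point bounds the degree
-/

set_option autoImplicit false
set_option linter.style.haveILetI false
set_option linter.unusedSectionVars false
set_option maxHeartbeats 1000000
set_option backward.isDefEq.respectTransparency false
set_option backward.isDefEq.respectTransparency.types false

universe u

open CategoryTheory CategoryTheory.Limits AlgebraicGeometry TopologicalSpace Opposite IsLocalRing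
open QCohLib
open AmpleLib (GenAt)
open DevissLib (St gm)

noncomputable section

namespace CurveMultLib

/-- Powers of the maximal ideal of a local ring of dimension at least two are not principal. -/
theorem not_pow_le_span {A : Type u} [CommRing A] [IsLocalRing A] [IsNoetherianRing A]
    (hA : (2 : ℕ) ≤ ringKrullDim A) (j : ℕ) (g : A) (hg : g ∈ maximalIdeal A) :
    ¬ maximalIdeal A ^ j ≤ Ideal.span {g} := fun h => by
  have hmin : maximalIdeal A ∈ (Ideal.span {g}).minimalPrimes := by
    refine ⟨⟨inferInstance, (Ideal.span_singleton_le_iff_mem _).2 hg⟩, fun q hq _ => ?_⟩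
    haveI := hq.1
    exact Ideal.IsPrime.le_of_pow_le (h.trans hq.2)
  have h1 := Ideal.height_le_one_of_isPrincipal_of_mem_minimalPrimes (Ideal.span {g}) (maximalIdeal A) hmin
  rw [← IsLocalRing.maximalIdeal_height_eq_ringKrullDim] at hA
  have h2 : ((2 : ℕ) : ℕ∞) ≤ (maximalIdeal A).height := WithBot.coe_le_coe.1 hA
  exact absurd (h2.trans h1) (by decide)

/-- A quotient by one equation of a ring with an `m`-fold point has length at least `m`. -/
theorem le_finrank_of_mult {k : Type u} [Field k] {A R Q : Type u} [CommRing A] [IsLocalRing A] [IsNoetherianRing A]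
    [CommRing R] (π : A →+* R) (hπ : Function.Surjective π) {m : ℕ}
    (hm : RingHom.ker π ≤ maximalIdeal A ^ m) (hA : (2 : ℕ) ≤ ringKrullDim A)
    [AddCommGroup Q] [Module R Q] [Module k Q] [Module.Finite k Q]
    (κ : k → R) (hκ : ∀ (c : k) (q : Q), c • q = κ c • q) (e : Q) (h : R) (g : A) (hg : π g = h)
    (hgm : g ∈ maximalIdeal A) (he : ∀ r : R, r • e = 0 → r ∈ Ideal.span {h}) :
    m ≤ Module.finrank k Q := by
  let M : ℕ → Submodule k Q := fun j =>
    { carrier := {q | ∃ a ∈ maximalIdeal A ^ j, q = π a • e}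
      add_mem' := by
        rintro _ _ ⟨a, ha, rfl⟩ ⟨b, hb, rfl⟩
        exact ⟨a + b, add_mem ha hb, by rw [map_add, add_smul]⟩
      zero_mem' := ⟨0, zero_mem _, by rw [map_zero, zero_smul]⟩
      smul_mem' := by
        rintro c _ ⟨a, ha, rfl⟩
        obtain ⟨b, hb⟩ := hπ (κ c)
        exact ⟨b * a, Ideal.mul_mem_left _ b ha, by rw [hκ, ← hb, smul_smul, map_mul]⟩ }
  have hle : ∀ j, M (j + 1) ≤ M j := fun j q ⟨a, ha, e'⟩ => ⟨a, Ideal.pow_le_pow_right j.le_succ ha, e'⟩
  have hlt : ∀ j, j < m → M (j + 1) < M j := fun j hj => (hle j).lt_of_not_ge fun hge => by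
    refine not_pow_le_span hA j g hgm ?_
    refine Submodule.le_of_le_smul_of_le_jacobson_bot (R := A) (M := A) (I := maximalIdeal A)
      (N := Ideal.span {g}) (N' := maximalIdeal A ^ j) (IsNoetherian.noetherian _) (IsLocalRing.maximalIdeal_le_jacobson _) ?_
    intro a ha
    obtain ⟨a', ha', e'⟩ := hge ⟨a, ha, rfl⟩
    obtain ⟨r, hr⟩ := Ideal.mem_span_singleton'.1 (he (π a - π a') (by rw [sub_smul, e', sub_self]))
    obtain ⟨b, hb⟩ := hπ r
    have hk : a - a' - b * g ∈ RingHom.ker π := by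
      rw [RingHom.mem_ker, map_sub, map_sub, map_mul, hb, hg, hr, sub_self]
    have hk' : a - a' - b * g ∈ maximalIdeal A ^ (j + 1) := Ideal.pow_le_pow_right hj (hm hk)
    rw [show a = b * g + (a' + (a - a' - b * g)) by ring]
    refine Submodule.add_mem_sup (Ideal.mem_span_singleton'.2 ⟨b, rfl⟩) ?_
    rw [Ideal.smul_eq_mul, ← pow_succ']
    exact add_mem ha' hk'
  have key : ∀ j, j ≤ m → Module.finrank k (M j) + j ≤ Module.finrank k (M 0) := by
    intro j
    induction j with
    | zero => exact fun _ => le_rfl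
    | succ j ih =>
      intro hj
      have h1 := Submodule.finrank_lt_finrank_of_lt (hlt j hj)
      have h2 := ih (by omega)
      omega
  have := key m le_rfl
  have := Submodule.finrank_le (M 0)
  omega

variable {k : Type u} [Field k] [IsAlgClosed k] {X : Scheme.{u}} [X.Over (Spec (CommRingCat.of k))]
  [IsProper (X ↘ Spec (CommRingCat.of k))] [IsIntegral X]

/-- The residue field of a closed point is the base field. -/
theorem exists_const_stalk (p : X) (hp : IsClosed ({p} : Set X)) (r : X.presheaf.stalk p) :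
    ∃ c : k, r - Curv2.stalkMap k X p c ∈ maximalIdeal (X.presheaf.stalk p) := by
  obtain ⟨V, hpV, a, rfl⟩ := X.presheaf.exists_germ_eq r
  obtain ⟨U, hU, hpU, hUV⟩ := exists_isAffineOpen_mem_and_subset (x := p) (U := V) hpV
  obtain ⟨c, hc⟩ := BlowRegLib.exists_const_sub_mem (X ↘ Spec (CommRingCat.of k)) p hp ⟨U, hU⟩ hpU
    (X.presheaf.map (homOfLE hUV).op a)
  refine ⟨c, ?_⟩
  rw [IsLocalRing.mem_maximalIdeal, mem_nonunits_iff]
  intro hu
  let b : Γ(X, U) := X.presheaf.map (homOfLE hUV).op a -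
    ((X.presheaf.map (homOfLE (le_top : U ≤ ⊤)).op).hom.comp (ProjUP.toGlobal (X ↘ Spec (CommRingCat.of k)))) c
  have hz := (Scheme.IdealSheafData.mem_support_iff_of_mem
    (I := Scheme.IdealSheafData.vanishingIdeal ⟨{p}, hp⟩) (U := ⟨U, hU⟩) hpU).1 (by
      rw [← SetLike.mem_coe, Scheme.IdealSheafData.coe_support_vanishingIdeal]; rfl)
  refine (Scheme.mem_zeroLocus_iff _ _ _).1 hz b hc ((Scheme.mem_basicOpen _ _ _ hpU).2 ?_)
  have e : X.presheaf.germ U p hpU b = X.presheaf.germ V p hpV a - Curv2.stalkMap k X p c := by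
    simp only [b, map_sub, RingHom.comp_apply]
    erw [TopCat.Presheaf.germ_res_apply, TopCat.Presheaf.germ_res_apply]
    rfl
  rwa [e]

/-- A nonzero section vanishing at a given point. -/
theorem exists_section_zero (hdim : topologicalKrullDim X = 1) {L : X.Modules} (hL : PicF.IsInvertible L)
    (hgen : ∀ x : X, ∃ σ : Γ(L, ⊤), GenAt L σ (show x ∈ (⊤ : X.Opens) from trivial))
    (hd : 0 < Curv2.deg k X L 1) (p : X) (hp : IsClosed ({p} : Set X)) :
    ∃ s : Γ(L, ⊤), s ≠ 0 ∧ ¬ GenAt L s (show p ∈ (⊤ : X.Opens) from trivial) := by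
  obtain ⟨e, he⟩ := hgen p
  have he0 : e ≠ 0 := fun h => by
    subst h
    exact one_ne_zero (α := X.presheaf.stalk p) (he.1 (by
      show _ • _ = _ • _
      rw [map_zero, smul_zero, smul_zero]))
  obtain ⟨x, hx⟩ := NefH1Lib.exists_not_genAt k hdim hL hd.ne' he0
  obtain ⟨v, hv⟩ := hgen x
  obtain ⟨r, hr⟩ := he.2 (L.presheaf.germ ⊤ p trivial v)
  obtain ⟨c, hc⟩ := exists_const_stalk (k := k) p hp r
  let c' : Γ(X, ⊤) := Coh.toGlobal (X ↘ Spec (CommRingCat.of k)) c
  refine ⟨v - c' • e, fun h0 => hx ?_, fun hgp => ?_⟩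
  · have hve : v = c' • e := sub_eq_zero.1 h0
    have hf : ∀ t : X.presheaf.stalk x, t • gm L x (show x ∈ (⊤ : X.Opens) from trivial) v =
        (t * X.presheaf.germ ⊤ x trivial c') • gm L x (show x ∈ (⊤ : X.Opens) from trivial) e := fun t => by
      rw [hve, DevissLib.gm_smul, smul_smul]
    have hunit : IsUnit (X.presheaf.germ ⊤ x trivial c') := by
      have hc0 : c ≠ 0 := by
        rintro rfl
        obtain ⟨t, ht⟩ := hv.2 (gm L x (show x ∈ (⊤ : X.Opens) from trivial) e)
        have h1 : (0 : X.presheaf.stalk x) • gm L x (show x ∈ (⊤ : X.Opens) from trivial) v =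
            (1 : X.presheaf.stalk x) • gm L x (show x ∈ (⊤ : X.Opens) from trivial) v := by
          rw [hf 0, hf 1]
          simp [c']
        exact zero_ne_one (hv.1 h1)
      exact ((IsUnit.mk0 c hc0).map (Coh.toGlobal (X ↘ Spec (CommRingCat.of k)))).map
        (X.presheaf.germ ⊤ x trivial).hom
    obtain ⟨w, hw⟩ := hunit
    refine ⟨fun a b hab => ?_, fun z => ?_⟩
    · have h1 : (a * (↑w⁻¹ : X.presheaf.stalk x)) • gm L x (show x ∈ (⊤ : X.Opens) from trivial) v =
          (b * (↑w⁻¹ : X.presheaf.stalk x)) • gm L x (show x ∈ (⊤ : X.Opens) from trivial) v := by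
        rw [hf, hf, ← hw, Units.inv_mul_cancel_right, Units.inv_mul_cancel_right]
        exact hab
      have := congrArg (· * (w : X.presheaf.stalk x)) (hv.1 h1)
      simpa only [Units.inv_mul_cancel_right] using this
    · obtain ⟨t, ht⟩ := hv.2 z
      exact ⟨t * X.presheaf.germ ⊤ x trivial c', (hf t).symm.trans ht⟩
  · obtain ⟨t, ht⟩ := hgp.2 (gm L p (show p ∈ (⊤ : X.Opens) from trivial) e)
    have hs : gm L p (show p ∈ (⊤ : X.Opens) from trivial) (v - c' • e) =
        (r - Curv2.stalkMap k X p c) • gm L p (show p ∈ (⊤ : X.Opens) from trivial) e := by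
      rw [sub_smul]
      refine (map_sub (L.presheaf.germ ⊤ p trivial).hom v (c' • e)).trans ?_
      exact congrArg₂ (· - ·) hr.symm (DevissLib.gm_smul L p _ c' e)
    have h1 : (t * (r - Curv2.stalkMap k X p c)) • gm L p (show p ∈ (⊤ : X.Opens) from trivial) e =
        (1 : X.presheaf.stalk p) • gm L p (show p ∈ (⊤ : X.Opens) from trivial) e := by
      rw [mul_smul, ← hs, one_smul]
      exact ht
    exact (IsLocalRing.mem_maximalIdeal _).1 hc (IsUnit.of_mul_eq_one _ ((mul_comm _ _).trans (he.1 h1)))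

/-- **The multiplicity of a point bounds the degree.** -/
theorem mult_le_deg (hdim : topologicalKrullDim X = 1) {L : X.Modules} (hL : PicF.IsInvertible L)
    (hgen : ∀ x : X, ∃ σ : Γ(L, ⊤), GenAt L σ (show x ∈ (⊤ : X.Opens) from trivial))
    (hd : 0 < Curv2.deg k X L 1) (p : X) (hp : IsClosed ({p} : Set X))
    {A : Type u} [CommRing A] [IsLocalRing A] [IsNoetherianRing A] (π : A →+* X.presheaf.stalk p)
    (hπ : Function.Surjective π) {m : ℕ} (hm : RingHom.ker π ≤ maximalIdeal A ^ m) (hA : (2 : ℕ) ≤ ringKrullDim A) :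
    (m : ℤ) ≤ Curv2.deg k X L 1 := by
  haveI := CurvLib.isNoetherian k (X := X)
  obtain ⟨s, hs0, hs⟩ := exists_section_zero hdim hL hgen hd p hp
  obtain ⟨e, he⟩ := hgen p
  have hO : PicF.IsInvertible (Coh.structureModule X) := CurvLib.isInvertible_structureModule
  let φ := unitHom L s
  have hφ : φ ≠ 0 := RRVanLib.unitHom_ne_zero hs0
  haveI : Mono φ := CurvLib.mono_of_ne_zero hO hL hφ
  obtain ⟨hQ, hdQ⟩ := CurvLib.cokernel_data (k := k) hO hL hdim hφ
  let S : ShortComplex X.Modules := ShortComplex.mk φ (cokernel.π φ) (cokernel.condition φ)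
  have hS : S.ShortExact :=
    { exact := ShortComplex.exact_of_g_is_cokernel _ (cokernelIsCokernel φ)
      mono_f := inferInstanceAs (Mono φ)
      epi_g := inferInstanceAs (Epi (cokernel.π φ)) }
  haveI := CurvLib.finite_HH (k := k) hQ 0
  have hadd := CurvLib.euler_add_of_isCoh (k := k) hS (CurvLib.isCoh_of_isInvertible hO)
    (CurvLib.isCoh_of_isInvertible hL) hQ
  change Curv2.euler k X L = Curv2.euler k X (Coh.structureModule X) + Curv2.euler k X (cokernel φ) at hadd
  obtain ⟨hT, hTc⟩ := CurvLib.finite_support_data k hQ hdQ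
  haveI hfin := CurvLib.finite_stalk (k := k) _ hT hTc subset_rfl p
  rw [CurvLib.euler_eq_h0 (k := k) hQ hdQ, CurvLib.finrank_h0_eq_sum (k := k) (cokernel φ) hT hTc subset_rfl
    (fun y => CurvLib.finite_stalk (k := k) _ hT hTc subset_rfl y)] at hadd
  suffices h : m ≤ CurvLib.stalkDim k (cokernel φ) p by
    have hle : CurvLib.stalkDim k (cokernel φ) p ≤ ∑ y ∈ hT.toFinset, CurvLib.stalkDim k (cokernel φ) y := by
      by_cases hpT : p ∈ hT.toFinset
      · exact Finset.single_le_sum (f := fun y => CurvLib.stalkDim k (cokernel φ) y) (fun _ _ => zero_le) hpT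
      · haveI : Subsingleton ((St p).obj (cokernel φ)) := not_not.mp fun h => hpT (hT.mem_toFinset.mpr h)
        letI := CurvLib.stalkModule (k := k) (cokernel φ) p
        rw [CurvLib.stalkDim, Module.finrank_zero_of_subsingleton]
        exact zero_le
    rw [Curv2.deg]
    push_cast
    omega
  letI := CurvLib.stalkModule (k := k) (cokernel φ) p
  let ê := gm L p (show p ∈ (⊤ : X.Opens) from trivial) e
  obtain ⟨h, hh⟩ := he.2 (gm L p (show p ∈ (⊤ : X.Opens) from trivial) s)
  have hhm : h ∈ maximalIdeal (X.presheaf.stalk p) := by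
    rw [IsLocalRing.mem_maximalIdeal, mem_nonunits_iff]
    rintro ⟨w, rfl⟩
    refine hs ⟨fun a b hab => ?_, fun z => ?_⟩
    · have h1 : (a * (w : X.presheaf.stalk p)) • ê = (b * (w : X.presheaf.stalk p)) • ê := by
        rw [mul_smul, mul_smul]
        exact ((congrArg (a • ·) hh).trans hab).trans (congrArg (b • ·) hh).symm
      exact w.isUnit.mul_right_cancel (he.1 h1)
    · obtain ⟨t, ht⟩ := he.2 z
      refine ⟨t * (↑w⁻¹ : X.presheaf.stalk p), ?_⟩
      refine (congrArg ((t * (↑w⁻¹ : X.presheaf.stalk p)) • ·) hh.symm).trans ?_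
      refine (smul_smul _ _ ê).trans ?_
      rw [Units.inv_mul_cancel_right]
      exact ht
  obtain ⟨g, hg⟩ := hπ h
  haveI : Nontrivial (X.presheaf.stalk p) := inferInstance
  have hgm : g ∈ maximalIdeal A := by
    rw [IsLocalRing.mem_maximalIdeal, mem_nonunits_iff]
    exact fun hu => (IsLocalRing.mem_maximalIdeal h).1 hhm (hg ▸ hu.map π)
  have hexact : ((S.map (St p))).Exact := hS.exact.map (St p)
  refine le_finrank_of_mult π hπ hm hA (Curv2.stalkMap k X p) (fun c q => rfl) (((St p).map (cokernel.π φ)).hom ê)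
    h g hg hgm fun r hr => ?_
  rw [← LinearMap.map_smul] at hr
  obtain ⟨u, hu⟩ := (ShortComplex.moduleCat_exact_iff _).1 hexact (r • ê) hr
  obtain ⟨a, rfl⟩ := ((AmpleLib.one_genOn (X := X) ⊤).genAt (show p ∈ (⊤ : X.Opens) from trivial)).2 u
  have e1 : ((St p).map φ).hom ((Coh.structureModule X).presheaf.germ ⊤ p trivial (1 : Γ(X, ⊤))) =
      gm L p (show p ∈ (⊤ : X.Opens) from trivial) s := by
    refine (DerSch.stalkFunctor_map_germ p (unitHom L s) ⊤ trivial _).trans ?_
    rw [QCohLib.unitHom_app, one_smul]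
    exact AmpleLib.germ_res L _ s _
  have e2 : r • ê = (a * h) • ê := by
    refine hu.symm.trans (((((St p).map φ).hom.map_smul a _).trans (congrArg (a • ·) e1)).trans ?_)
    exact (congrArg (a • ·) hh.symm).trans (smul_smul a h ê)
  exact Ideal.mem_span_singleton'.2 ⟨a, (he.1 e2).symm⟩

end CurveMultLib
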